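import Cfsg.Agent.H74.SchurPerfect

/-!
Multiplier of a central quotient of a perfect group with trivial multiplier.
-/

set_option autoImplicit false

namespace Cfsg.Agent.Linear.Mult

open Subgroup Cfsg.Agent.H74.Schur

universe u v w

variable {G : Type v} {Q : Type u} [Group G] [Group Q]

/-- If `G` is perfect with trivial multiplier and `π : G → Q` is surjective with central kernel,
then every finite stem extension of `Q` has kernel an image of `ker π`. -/
theorem exists_ker_surjection [Finite G] (hG : Group.IsPerfect G)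
    (h1 : Cfsg.HasCyclicSchurMultiplier G 1) (π : G →* Q) (hπ : Function.Surjective π)
    {Γ : Type w} [Group Γ] (σ : Γ →* Q) (hσ : Cfsg.IsStemExtension σ) :
    ∃ f : π.ker →* σ.ker, Function.Surjective f := by
  let P : Subgroup (Γ × G) :=
    (σ.comp (MonoidHom.fst Γ G)).eqLocus (π.comp (MonoidHom.snd Γ G))
  let ρ : P →* G := (MonoidHom.snd Γ G).comp P.subtype
  obtain ⟨s, hs⟩ := exists_section hG h1 ρ
    (fun g => ⟨⟨((hσ.1 (π g)).choose, g), (hσ.1 (π g)).choose_spec⟩, rfl⟩)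
    (fun a ha => by
      have hmem : σ a.1.1 = π a.1.2 := a.2
      have h2 : a.1.2 = 1 := ha
      rw [h2, map_one] at hmem
      rw [mem_center_iff]
      intro b
      refine Subtype.ext (Prod.ext ?_ ?_)
      · exact mem_center_iff.1 (hσ.2.1 hmem) b.1.1
      · show b.1.2 * a.1.2 = a.1.2 * b.1.2
        rw [h2, one_mul, mul_one])
  let η : G →* Γ := ((MonoidHom.fst Γ G).comp P.subtype).comp s
  have hη : ∀ g, σ (η g) = π g := fun g => by
    have h2 : (s g : Γ × G).2 = g := DFunLike.congr_fun hs g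
    exact (s g).2.trans (congrArg π h2)
  have key : ∀ a : Γ, ∃ g : G, ∃ z ∈ center Γ, a = η g * z := fun a => by
    obtain ⟨g, hg⟩ := hπ (σ a)
    refine ⟨g, (η g)⁻¹ * a, hσ.2.1 ?_, (mul_inv_cancel_left _ _).symm⟩
    rw [MonoidHom.mem_ker, map_mul, map_inv, hη, hg, inv_mul_cancel]
  have hcomm : commutator Γ ≤ η.range := by
    rw [commutator_def, Subgroup.commutator_le]
    intro a _ b _
    obtain ⟨g, z, hz, ha⟩ := key a
    obtain ⟨g', z', hz', hb⟩ := key b
    rw [ha, hb, commutatorElement_def, commutatorElement_mul_central hz hz']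
    exact mul_mem (mul_mem (mul_mem ⟨_, rfl⟩ ⟨_, rfl⟩) (inv_mem ⟨_, rfl⟩)) (inv_mem ⟨_, rfl⟩)
  refine ⟨(η.comp π.ker.subtype).codRestrict σ.ker fun z => ?_, fun z => ?_⟩
  · rw [MonoidHom.mem_ker]
    exact (hη z.1).trans z.2
  · obtain ⟨g, hg⟩ := hcomm (hσ.2.2 z.2)
    refine ⟨⟨g, ?_⟩, Subtype.ext hg⟩
    rw [MonoidHom.mem_ker, ← hη, hg]
    exact z.2

/-- The multiplier of a central quotient `Q` of a perfect group `G` with trivial multiplier is
the kernel of the quotient map. -/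
theorem hasSchurMultiplier_of_cover [Finite G] (hG : Group.IsPerfect G)
    (h1 : Cfsg.HasCyclicSchurMultiplier G 1) (π : G →* Q) (hπ : Function.Surjective π)
    (hc : π.ker ≤ center G) {A : Type w} [CommGroup A] (e : π.ker ≃* A) :
    Cfsg.HasSchurMultiplier Q A := by
  have hst : Cfsg.IsStemExtension π :=
    ⟨hπ, hc, fun x _ => isPerfect_iff.1 hG ▸ mem_top x⟩
  obtain ⟨Δ, hΔ, hΔf, τ, hτ, ⟨e'⟩⟩ := exists_stem_small hst
  refine ⟨⟨Δ, hΔ, hΔf, τ, hτ, ⟨e'.symm.trans e⟩⟩, fun Γ _ _ σ hσ => ?_⟩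
  obtain ⟨f, hf⟩ := exists_ker_surjection hG h1 π hπ σ hσ
  exact ⟨f.comp e.symm.toMonoidHom, hf.comp e.symm.surjective⟩

/-- Cyclic form of `hasSchurMultiplier_of_cover`. -/
theorem hasCyclicSchurMultiplier_of_cover [Finite G] (hG : Group.IsPerfect G)
    (h1 : Cfsg.HasCyclicSchurMultiplier G 1) (π : G →* Q) (hπ : Function.Surjective π)
    (hc : π.ker ≤ center G) (hcyc : IsCyclic π.ker) {k : ℕ} (hk : Nat.card π.ker = k) :
    Cfsg.HasCyclicSchurMultiplier Q k := by
  let _ : CommGroup π.ker := { (inferInstance : Group π.ker) with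
    mul_comm := fun a b => Subtype.ext (mem_center_iff.1 (hc b.2) a.1) }
  have := hcyc
  exact hasSchurMultiplier_of_cover hG h1 π hπ hc
    (mulEquivOfCyclicCardEq (by rw [hk]; exact ((Nat.card_congr Multiplicative.toAdd).trans (Nat.card_zmod k)).symm))

/-- `HasCyclicSchurMultiplier _ 1` from a section-free criterion: every finite stem extension has
a kernel meeting a complete set of lifts trivially. -/
theorem ker_eq_bot_of_lift {Γ : Type w} [Group Γ] {σ : Γ →* Q} (hσ : Cfsg.IsStemExtension σ)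
    (H : Subgroup Γ) (hH : H.map σ = ⊤) (hinj : ∀ h ∈ H, σ h = 1 → h = 1) : σ.ker = ⊥ := by
  have key : ∀ a : Γ, ∃ h ∈ H, ∃ z ∈ center Γ, a = h * z := fun a => by
    obtain ⟨h, hh, he⟩ : σ a ∈ H.map σ := hH ▸ mem_top _
    refine ⟨h, hh, h⁻¹ * a, hσ.2.1 ?_, (mul_inv_cancel_left _ _).symm⟩
    rw [MonoidHom.mem_ker, map_mul, map_inv, he, inv_mul_cancel]
  have hcomm : commutator Γ ≤ H := by
    rw [commutator_def, Subgroup.commutator_le]
    intro a _ b _
    obtain ⟨g, hg, z, hz, ha⟩ := key a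
    obtain ⟨g', hg', z', hz', hb⟩ := key b
    rw [ha, hb, commutatorElement_def, commutatorElement_mul_central hz hz']
    exact mul_mem (mul_mem (mul_mem hg hg') (inv_mem hg)) (inv_mem hg')
  rw [eq_bot_iff]
  exact fun z hz => hinj z (hcomm (hσ.2.2 hz)) hz

end Cfsg.Agent.Linear.Mult
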