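import Mathlib.GroupTheory.Commutator.Basic
import Mathlib.GroupTheory.Subgroup.Center
import Mathlib.Tactic.Group

/-!
Commutators of lifts in a central extension.
-/

set_option autoImplicit false

namespace Cfsg.Agent.Linear.Mult

open Subgroup
open scoped commutatorElement

universe u v

variable {Γ : Type u} {S : Type v} [Group Γ] [Group S]

/-- A central extension, with a choice of lifts. -/
structure CExtData (Γ : Type u) (S : Type v) [Group Γ] [Group S] where
  proj : Γ →* S
  surj : Function.Surjective proj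
  central : proj.ker ≤ center Γ

namespace CExtData

variable (E : CExtData Γ S)

/-- A chosen lift. -/
noncomputable def lift (g : S) : Γ := Function.surjInv E.surj g

/-- The commutator of lifts. -/
noncomputable def cm (g h : S) : Γ := ⁅E.lift g, E.lift h⁆

theorem proj_lift (g : S) : E.proj (E.lift g) = g := Function.surjInv_eq E.surj g

theorem exists_central {a : Γ} {g : S} (ha : E.proj a = g) :
    ∃ z ∈ center Γ, a = E.lift g * z :=
  ⟨(E.lift g)⁻¹ * a, E.central (by rw [MonoidHom.mem_ker, map_mul, map_inv, E.proj_lift, ha,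
    inv_mul_cancel]), (mul_inv_cancel_left _ _).symm⟩

/-- The commutator does not depend on the lifts. -/
theorem cm_eq {a b : Γ} {g h : S} (ha : E.proj a = g) (hb : E.proj b = h) :
    ⁅a, b⁆ = E.cm g h := by
  obtain ⟨z, hz, rfl⟩ := E.exists_central ha
  obtain ⟨z', hz', rfl⟩ := E.exists_central hb
  have c1 : ∀ x, x * z = z * x := fun x => mem_center_iff.1 hz x
  have c2 : ∀ x, x * z' = z' * x := fun x => mem_center_iff.1 hz' x
  have e1 : ∀ x, z * x * z⁻¹ = x := fun x => by rw [← c1, mul_inv_cancel_right]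
  have e2 : ∀ x, z' * x * z'⁻¹ = x := fun x => by rw [← c2, mul_inv_cancel_right]
  simp only [cm, commutatorElement_def]
  calc E.lift g * z * (E.lift h * z') * (E.lift g * z)⁻¹ * (E.lift h * z')⁻¹
      = E.lift g * (z * (E.lift h * z') * z⁻¹) * (E.lift g)⁻¹ * z'⁻¹ * (E.lift h)⁻¹ := by group
    _ = E.lift g * E.lift h * (z' * (E.lift g)⁻¹ * z'⁻¹) * (E.lift h)⁻¹ := by rw [e1]; group
    _ = _ := by rw [e2]

theorem proj_cm (g h : S) : E.proj (E.cm g h) = ⁅g, h⁆ := by
  rw [cm, map_commutatorElement, E.proj_lift, E.proj_lift]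

theorem cm_inv (g h : S) : (E.cm g h)⁻¹ = E.cm h g := commutatorElement_inv _ _

theorem cm_self (g : S) : E.cm g g = 1 := commutatorElement_self _

theorem cm_one_left (h : S) : E.cm 1 h = 1 :=
  (E.cm_eq (map_one _) (E.proj_lift h)).symm.trans (commutatorElement_one_left _)

theorem cm_one_right (g : S) : E.cm g 1 = 1 :=
  (E.cm_eq (E.proj_lift g) (map_one _)).symm.trans (commutatorElement_one_right _)

/-- Conjugation of a commutator of lifts. -/
theorem conj_cm {y : Γ} {s : S} (hy : E.proj y = s) (g h : S) :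
    y * E.cm g h * y⁻¹ = E.cm (s * g * s⁻¹) (s * h * s⁻¹) := by
  refine Eq.trans ?_ (E.cm_eq (a := y * E.lift g * y⁻¹) (b := y * E.lift h * y⁻¹)
    (by rw [map_mul, map_mul, map_inv, E.proj_lift, hy])
    (by rw [map_mul, map_mul, map_inv, E.proj_lift, hy]))
  simp only [cm, commutatorElement_def]
  group

theorem cm_mul_left (g g' h : S) :
    E.cm (g * g') h = E.lift g * E.cm g' h * (E.lift g)⁻¹ * E.cm g h := by
  rw [← E.cm_eq (a := E.lift g * E.lift g') (by rw [map_mul, E.proj_lift, E.proj_lift])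
    (E.proj_lift h)]
  simp only [cm, commutatorElement_def]
  group

theorem cm_mul_right (g h h' : S) :
    E.cm g (h * h') = E.cm g h * (E.lift h * E.cm g h' * (E.lift h)⁻¹) := by
  rw [← E.cm_eq (b := E.lift h * E.lift h') (E.proj_lift g)
    (by rw [map_mul, E.proj_lift, E.proj_lift])]
  simp only [cm, commutatorElement_def]
  group

/-- Commutators of commuting elements are central. -/
theorem cm_mem_center {g h : S} (hgh : Commute g h) : E.cm g h ∈ center Γ :=
  E.central (by rw [MonoidHom.mem_ker, E.proj_cm, commutatorElement_eq_one_iff_commute.2 hgh])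

/-- Central elements are fixed by conjugation. -/
theorem conj_central {z : Γ} (hz : z ∈ center Γ) (y : Γ) : y * z * y⁻¹ = z := by
  rw [mem_center_iff.1 hz y, mul_inv_cancel_right]

/-- `cm g h = 1` means that all lifts commute. -/
theorem commute_of_cm {g h : S} (hgh : E.cm g h = 1) {a b : Γ} (ha : E.proj a = g)
    (hb : E.proj b = h) : Commute a b :=
  commutatorElement_eq_one_iff_commute.1 ((E.cm_eq ha hb).trans hgh)

theorem cm_eq_one_of_commute {g h : S} {a b : Γ} (ha : E.proj a = g) (hb : E.proj b = h)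
    (hab : Commute a b) : E.cm g h = 1 :=
  (E.cm_eq ha hb).symm.trans (commutatorElement_eq_one_iff_commute.2 hab)

theorem cm_symm {g h : S} (hgh : E.cm g h = 1) : E.cm h g = 1 := by
  rw [← E.cm_inv, hgh, inv_one]

/-- An element whose conjugation fixes `b` and `b'` commutes with lifts of `⁅b, b'⁆`. -/
theorem cm_commutator_eq_one {a b b' : S} (hb : Commute a b) (hb' : Commute a b') :
    E.cm a ⁅b, b'⁆ = 1 := by
  refine E.cm_eq_one_of_commute (E.proj_lift a) (E.proj_cm b b') ?_
  have h := E.conj_cm (E.proj_lift a) b b'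
  rw [show a * b * a⁻¹ = b by rw [hb.eq, mul_inv_cancel_right],
    show a * b' * a⁻¹ = b' by rw [hb'.eq, mul_inv_cancel_right]] at h
  exact mul_inv_eq_iff_eq_mul.1 h

/-- Bilinearity on commuting elements. -/
theorem cm_mul_left_of_commute {g g' h : S} (hg : Commute g' h) :
    E.cm (g * g') h = E.cm g' h * E.cm g h := by
  rw [E.cm_mul_left, conj_central (E.cm_mem_center hg)]

theorem cm_mul_right_of_commute {g h h' : S} (hg : Commute g h') :
    E.cm g (h * h') = E.cm g h * E.cm g h' := by
  rw [E.cm_mul_right, conj_central (E.cm_mem_center hg)]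

/-- The Steinberg three-element identity. -/
theorem cm_assoc {a b c p q : S} (hac : E.cm a c = 1) (hp : ⁅a, b⁆ = p) (hq : ⁅b, c⁆ = q)
    (hpb : E.cm p b = 1) (hqb : E.cm q b = 1)
    (hpq : E.cm p q = 1) (hra : E.cm ⁅p, c⁆ a = 1) (hrb : E.cm ⁅p, c⁆ b = 1)
    (hrc : E.cm ⁅p, c⁆ c = 1) (hrp : E.cm ⁅p, c⁆ p = 1) (hrq : E.cm ⁅p, c⁆ q = 1) :
    E.cm p c = E.cm a q := by
  obtain ⟨A, rfl⟩ : ∃ A, E.proj A = a := ⟨_, E.proj_lift a⟩
  obtain ⟨B, rfl⟩ : ∃ B, E.proj B = b := ⟨_, E.proj_lift b⟩
  obtain ⟨C, rfl⟩ : ∃ C, E.proj C = c := ⟨_, E.proj_lift c⟩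
  set P := ⁅A, B⁆ with hP
  set Q := ⁅B, C⁆ with hQ
  have hP' : E.proj P = p := by rw [hP, map_commutatorElement, hp]
  have hQ' : E.proj Q = q := by rw [hQ, map_commutatorElement, hq]
  set R := ⁅P, C⁆ with hR
  set T := ⁅A, Q⁆ with hT
  rw [← E.cm_eq hP' rfl, ← E.cm_eq rfl hQ', ← hR, ← hT]
  have hR' : E.proj R = ⁅p, E.proj C⁆ := by rw [hR, map_commutatorElement, hP']
  have cAC : A * C = C * A := (E.commute_of_cm hac rfl rfl).eq
  have cPQ : P * Q = Q * P := (E.commute_of_cm hpq hP' hQ').eq
  have cPB : P * B = B * P := (E.commute_of_cm hpb hP' rfl).eq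
  have cQB : Q * B = B * Q := (E.commute_of_cm hqb hQ' rfl).eq
  have cRA : R * A = A * R := (E.commute_of_cm hra hR' rfl).eq
  have cRB : R * B = B * R := (E.commute_of_cm hrb hR' rfl).eq
  have cRC : R * C = C * R := (E.commute_of_cm hrc hR' rfl).eq
  have cRP : R * P = P * R := (E.commute_of_cm hrp hR' hP').eq
  have cRQ : R * Q = Q * R := (E.commute_of_cm hrq hR' hQ').eq
  have eAB : A * B = P * (B * A) := by rw [hP, commutatorElement_def]; group
  have eBC : B * C = Q * (C * B) := by rw [hQ, commutatorElement_def]; group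
  have eAQ : A * Q = T * (Q * A) := by rw [hT, commutatorElement_def]; group
  have ePC : P * C = R * (C * P) := by rw [hR, commutatorElement_def]; group
  have w1 : A * (B * C) = P * (Q * (C * (B * A))) :=
    calc A * (B * C) = A * B * C := (mul_assoc _ _ _).symm
      _ = P * (B * A) * C := by rw [eAB]
      _ = P * (B * (A * C)) := by simp only [mul_assoc]
      _ = P * (B * (C * A)) := by rw [cAC]
      _ = P * (B * C * A) := by simp only [mul_assoc]
      _ = P * (Q * (C * B) * A) := by rw [eBC]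
      _ = _ := by simp only [mul_assoc]
  have w2 : A * (B * C) = T * (Q * (C * (P * (B * A)))) :=
    calc A * (B * C) = A * (Q * (C * B)) := by rw [eBC]
      _ = A * Q * (C * B) := (mul_assoc _ _ _).symm
      _ = T * (Q * A) * (C * B) := by rw [eAQ]
      _ = T * (Q * (A * C * B)) := by simp only [mul_assoc]
      _ = T * (Q * (C * A * B)) := by rw [cAC]
      _ = T * (Q * (C * (A * B))) := by simp only [mul_assoc]
      _ = _ := by rw [eAB]
  have w3 : P * (Q * C) = R * (Q * (C * P)) :=
    calc P * (Q * C) = P * Q * C := (mul_assoc _ _ _).symm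
      _ = Q * (P * C) := by rw [cPQ, mul_assoc]
      _ = Q * (R * (C * P)) := by rw [ePC]
      _ = Q * R * (C * P) := (mul_assoc _ _ _).symm
      _ = R * Q * (C * P) := by rw [cRQ]
      _ = _ := mul_assoc _ _ _
  have w4 : T * (Q * (C * (P * (B * A)))) = R * (Q * (C * (P * (B * A)))) :=
    calc T * (Q * (C * (P * (B * A)))) = P * (Q * (C * (B * A))) := w2.symm.trans w1
      _ = P * (Q * C) * (B * A) := by simp only [mul_assoc]
      _ = R * (Q * (C * P)) * (B * A) := by rw [w3]
      _ = _ := by simp only [mul_assoc]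
  exact (mul_right_cancel w4).symm

end CExtData

end Cfsg.Agent.Linear.Mult
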