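import Cfsg.Agent.Linear.Mult.SLElements
import Cfsg.Agent.Linear.Mult.Lifts

/-!
Commuting root elements of `SL_n` have commuting lifts in every central extension.
-/

set_option autoImplicit false

namespace Cfsg.Agent.Linear.Mult

open Matrix
open scoped commutatorElement

universe u v

variable {n : ℕ} {F : Type u} [Field F] [Fintype F]

theorem exists_cube_ne_one (h2 : Fintype.card F ≠ 2) (h4 : Fintype.card F ≠ 4) :
    ∃ s : F, s ≠ 0 ∧ s ^ 3 ≠ 1 := by
  classical
  by_contra! hno
  obtain ⟨g, hg⟩ := IsCyclic.exists_ofOrder_eq_natCard (α := Fˣ)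
  have hcard : Nat.card Fˣ = Fintype.card F - 1 := by
    rw [Nat.card_eq_fintype_card, Fintype.card_units]
  have h3 : g ^ 3 = 1 := Units.ext (by simpa using hno g g.ne_zero)
  have hdvd := orderOf_dvd_of_pow_eq_one h3
  rw [hg, hcard] at hdvd
  have hq : 1 < Fintype.card F := Fintype.one_lt_card
  rcases (Nat.dvd_prime Nat.prime_three).1 hdvd with h | h <;> omega

theorem exists_sq_ne_one (h2 : Fintype.card F ≠ 2) (h3 : Fintype.card F ≠ 3) :
    ∃ s : F, s ≠ 0 ∧ s ^ 2 ≠ 1 := by
  classical
  by_contra! hno
  obtain ⟨g, hg⟩ := IsCyclic.exists_ofOrder_eq_natCard (α := Fˣ)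
  have hcard : Nat.card Fˣ = Fintype.card F - 1 := by
    rw [Nat.card_eq_fintype_card, Fintype.card_units]
  have h : g ^ 2 = 1 := Units.ext (by simpa using hno g g.ne_zero)
  have hdvd := orderOf_dvd_of_pow_eq_one h
  rw [hg, hcard] at hdvd
  have hq : 1 < Fintype.card F := Fintype.one_lt_card
  rcases (Nat.dvd_prime Nat.prime_two).1 hdvd with h | h <;> omega

variable {Γ : Type v} [Group Γ] (E : CExtData Γ (SpecialLinearGroup (Fin n) F))

/-- Torus invariance kills the commutator pairing. -/
theorem cm_el_eq_one_of_torus {d : Fin n → F} (hd : ∏ a, d a = 1) {i j k l : Fin n}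
    (hij : d i = d j) (hkl : d k / d l ≠ 1) (hil : i ≠ l) (hjk : j ≠ k) (t u : F) :
    E.cm (el i j t) (el k l u) = 1 := by
  set a := d k / d l with ha
  have ha1 : a - 1 ≠ 0 := sub_ne_zero.2 hkl
  have inv : ∀ w : F, E.cm (el i j t) (el k l (a * w)) = E.cm (el i j t) (el k l w) := fun w => by
    have h := E.conj_cm (E.proj_lift (dg d hd)) (el i j t) (el k l w)
    rw [CExtData.conj_central (E.cm_mem_center (el_commute hil hjk t w)), dg_conj_el, dg_conj_el,
      hij, div_self (dg_ne_zero hd j), one_mul] at h
    exact h.symm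
  obtain ⟨w, rfl⟩ : ∃ w, u = (a - 1) * w := ⟨(a - 1)⁻¹ * u, by rw [mul_inv_cancel_left₀ ha1]⟩
  have h := inv w
  rw [show a * w = (a - 1) * w + w by ring, el_add,
    E.cm_mul_right_of_commute (el_commute hil hjk t w)] at h
  exact mul_eq_right.1 h

variable (hn : 3 ≤ n) (hexc3 : n = 3 → Fintype.card F ≠ 2 ∧ Fintype.card F ≠ 4)
  (hexc4 : n = 4 → Fintype.card F ≠ 2)

omit [Fintype F] in
/-- A free index kills the commutator pairing. -/
theorem cm_el_eq_one_of_free {i j k l h : Fin n} (hkl : k ≠ l) (hil : i ≠ l)
    (hjk : j ≠ k) (h1 : h ≠ i) (h2 : h ≠ j) (h3 : h ≠ k) (h4 : h ≠ l) (t u : F) :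
    E.cm (el i j t) (el k l u) = 1 := by
  rw [show el k l u = ⁅el k h u, el h l (1 : F)⁆ by rw [el_commutator h3.symm h4 hkl, mul_one]]
  exact E.cm_commutator_eq_one (el_commute h1.symm hjk t u) (el_commute hil h2.symm t 1)

include hexc3 in
theorem cm_el_eq_one_three {i j k l : Fin n} (hn3 : n = 3) (hij : i ≠ j) (hkl : k ≠ l)
    (hil : i ≠ l) (hjk : j ≠ k) (hne : ¬ (i = k ∧ j = l)) (t u : F) :
    E.cm (el i j t) (el k l u) = 1 := by
  subst hn3
  obtain ⟨s, hs0, hs⟩ := exists_cube_ne_one (hexc3 rfl).1 (hexc3 rfl).2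
  have hcases : i = k ∨ j = l := by omega
  have key : ∀ c : Fin 3, c ≠ i → c ≠ j →
      ∏ a, (Function.update (fun _ => s) c (s ^ 2)⁻¹ : Fin 3 → F) a = 1 := by
    intro c _ _
    fin_cases c <;> simp [Fin.prod_univ_three, Function.update] <;> field_simp
  rcases hcases with h | h
  · subst h
    have hjl : j ≠ l := fun e => hne ⟨rfl, e⟩
    refine cm_el_eq_one_of_torus E (key l hkl.symm (Ne.symm hjl)) ?_ ?_ hil hjk t u
    · rw [Function.update_of_ne hkl, Function.update_of_ne hjl]
    · rw [Function.update_of_ne hkl, Function.update_self, div_inv_eq_mul]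
      exact fun e => hs (by linear_combination e)
  · subst h
    have hik : i ≠ k := fun e => hne ⟨e, rfl⟩
    refine cm_el_eq_one_of_torus E (key k hik.symm hjk.symm) ?_ ?_ hil hjk t u
    · rw [Function.update_of_ne hik, Function.update_of_ne hjk]
    · rw [Function.update_of_ne hjk, Function.update_self]
      intro e
      apply hs
      field_simp at e
      linear_combination -e

include hexc4 in
theorem cm_el_eq_one_four {i j k l : Fin n} (hn4 : n = 4) (hij : i ≠ j) (hkl : k ≠ l)
    (hik : i ≠ k) (hil : i ≠ l) (hjk : j ≠ k) (hjl : j ≠ l) (t u : F) :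
    E.cm (el i j t) (el k l u) = 1 := by
  subst hn4
  classical
  by_cases h3 : Fintype.card F = 3
  · -- swap the two pairs by an even permutation
    set σ := Equiv.swap i k * Equiv.swap j l with hσdef
    have hσ : Equiv.Perm.sign σ = 1 := by
      rw [hσdef, map_mul, Equiv.Perm.sign_swap hik, Equiv.Perm.sign_swap hjl]; rfl
    have e1 : σ i = k := by
      rw [hσdef, Equiv.Perm.mul_apply, Equiv.swap_apply_of_ne_of_ne hij hil, Equiv.swap_apply_left]
    have e2 : σ j = l := by
      rw [hσdef, Equiv.Perm.mul_apply, Equiv.swap_apply_left,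
        Equiv.swap_apply_of_ne_of_ne (Ne.symm hil) (Ne.symm hkl)]
    have e3 : σ k = i := by
      rw [hσdef, Equiv.Perm.mul_apply, Equiv.swap_apply_of_ne_of_ne (Ne.symm hjk) hkl,
        Equiv.swap_apply_right]
    have e4 : σ l = j := by
      rw [hσdef, Equiv.Perm.mul_apply, Equiv.swap_apply_right,
        Equiv.swap_apply_of_ne_of_ne (Ne.symm hij) hjk]
    have symm : ∀ a b : F, E.cm (el k l a) (el i j b) = E.cm (el i j a) (el k l b) := fun a b => by
      have h := E.conj_cm (E.proj_lift (pm σ hσ)) (el (σ i) (σ j) a) (el (σ k) (σ l) b)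
      rw [pm_conj_el, pm_conj_el, e1, e2, e3, e4,
        CExtData.conj_central (E.cm_mem_center (el_commute (Ne.symm hjk) (Ne.symm hil) a b))] at h
      exact h
    have h11 : E.cm (el i j (1 : F)) (el k l 1) = 1 := by
      set z := E.cm (el i j (1 : F)) (el k l 1) with hz
      have hinv : z⁻¹ = z := by rw [hz, E.cm_inv, symm]
      have hchar : (1 : F) + 1 + 1 = 0 := by
        have := Nat.cast_card_eq_zero F
        rw [h3] at this
        push_cast at this
        linear_combination this
      have h := congrArg (fun w => E.cm (el i j (1 : F)) (el k l w)) hchar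
      simp only [el_add, el_zero, E.cm_one_right,
        E.cm_mul_right_of_commute (el_commute hil hjk (1 : F) _), ← hz] at h
      calc z = z * (z * z) := by rw [mul_eq_one_iff_eq_inv.2 hinv.symm, mul_one]
        _ = 1 := by rw [← mul_assoc]; exact h
    have hall : ∀ x : F, x = 0 ∨ x = 1 ∨ x = 1 + 1 := by
      intro x
      by_contra! hx
      have h2 : (1 : F) + 1 ≠ 0 := fun e => by
        have := Nat.cast_card_eq_zero F
        rw [h3] at this
        push_cast at this
        exact one_ne_zero (α := F) (by linear_combination this - e)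
      have hsub : ({0, 1, 1 + 1, x} : Finset F) ⊆ Finset.univ := Finset.subset_univ _
      have hcard := Finset.card_le_card hsub
      rw [Finset.card_univ, h3, Finset.card_insert_of_notMem (by simp [h2.symm, hx.1.symm]),
        Finset.card_insert_of_notMem (by simp [hx.2.1.symm]),
        Finset.card_insert_of_notMem (by simp [hx.2.2.symm]), Finset.card_singleton] at hcard
      omega
    have addR : ∀ x y z : F, E.cm (el i j x) (el k l (y + z)) =
        E.cm (el i j x) (el k l y) * E.cm (el i j x) (el k l z) := fun x y z => by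
      rw [el_add, E.cm_mul_right_of_commute (el_commute hil hjk x z)]
    have addL : ∀ x y z : F, E.cm (el i j (x + y)) (el k l z) =
        E.cm (el i j y) (el k l z) * E.cm (el i j x) (el k l z) := fun x y z => by
      rw [el_add, E.cm_mul_left_of_commute (el_commute hil hjk y z)]
    rcases hall t with rfl | rfl | rfl <;> rcases hall u with rfl | rfl | rfl <;>
      simp [el_zero, E.cm_one_left, E.cm_one_right, addL, addR, h11]
  · obtain ⟨s, hs0, hs⟩ := exists_sq_ne_one (hexc4 rfl) h3
    refine cm_el_eq_one_of_torus E (d := Function.update (Function.update 1 k s) l s⁻¹) ?_ ?_ ?_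
      hil hjk t u
    · have hone : ∀ a, a ∉ ({k, l} : Finset (Fin 4)) →
          (Function.update (Function.update 1 k s) l s⁻¹ : Fin 4 → F) a = 1 := fun a ha => by
        simp only [Finset.mem_insert, Finset.mem_singleton, not_or] at ha
        rw [Function.update_of_ne ha.2, Function.update_of_ne ha.1, Pi.one_apply]
      rw [← Finset.prod_subset (Finset.subset_univ ({k, l} : Finset (Fin 4))) fun a _ => hone a,
        Finset.prod_pair hkl, Function.update_self, Function.update_of_ne hkl, Function.update_self,
        mul_inv_cancel₀ hs0]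
    · rw [Function.update_of_ne hil, Function.update_of_ne hik, Function.update_of_ne hjl,
        Function.update_of_ne hjk, Pi.one_apply, Pi.one_apply]
    · rw [Function.update_of_ne hkl, Function.update_self, Function.update_self, div_inv_eq_mul]
      exact fun e => hs (by linear_combination e)

include hn hexc3 hexc4 in
/-- Commuting root elements have commuting lifts. -/
theorem cm_el_eq_one {i j k l : Fin n} (hil : i ≠ l) (hjk : j ≠ k) (t u : F) :
    E.cm (el i j t) (el k l u) = 1 := by
  by_cases hij : i = j
  · subst hij; rw [el_self]; exact E.cm_one_left _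
  by_cases hkl : k = l
  · subst hkl; rw [el_self]; exact E.cm_one_right _
  by_cases hfree : ∃ h, h ≠ i ∧ h ≠ j ∧ h ≠ k ∧ h ≠ l
  · obtain ⟨h, h1, h2, h3, h4⟩ := hfree
    exact cm_el_eq_one_of_free E hkl hil hjk h1 h2 h3 h4 t u
  push Not at hfree
  by_cases hik : i = k
  · refine cm_el_eq_one_three E hexc3 ?_ hij hkl hil hjk ?_ t u
    · have hsub : (Finset.univ : Finset (Fin n)) ⊆ {i, j, l} := fun h _ => by
        have := hfree h
        simp only [Finset.mem_insert, Finset.mem_singleton]
        by_contra! hh
        exact hh.2.2 (this hh.1 hh.2.1 (hik ▸ hh.1))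
      have := (Finset.card_le_card hsub).trans Finset.card_le_three
      simp at this
      omega
    · rintro ⟨-, rfl⟩
      obtain ⟨h, h1, h2⟩ : ∃ h : Fin n, h ≠ i ∧ h ≠ j := by
        by_contra! hc
        have : (Finset.univ : Finset (Fin n)) ⊆ {i, j} := fun h _ => by
          simp only [Finset.mem_insert, Finset.mem_singleton]
          by_contra! hh
          exact hh.2 (hc h hh.1)
        have := (Finset.card_le_card this).trans Finset.card_le_two
        simp at this
        omega
      exact h2 (hfree h h1 h2 (hik ▸ h1))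
  by_cases hjl : j = l
  · refine cm_el_eq_one_three E hexc3 ?_ hij hkl hil hjk (fun e => hik e.1) t u
    have hsub : (Finset.univ : Finset (Fin n)) ⊆ {i, j, k} := fun h _ => by
      simp only [Finset.mem_insert, Finset.mem_singleton]
      by_contra! hh
      exact hh.2.1 ((hfree h hh.1 hh.2.1 hh.2.2).trans hjl.symm)
    have := (Finset.card_le_card hsub).trans Finset.card_le_three
    simp at this
    omega
  · refine cm_el_eq_one_four E hexc4 ?_ hij hkl hik hil hjk hjl t u
    have hsub : (Finset.univ : Finset (Fin n)) ⊆ {i, j, k, l} := fun h _ => by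
      simp only [Finset.mem_insert, Finset.mem_singleton]
      by_contra! hh
      exact hh.2.2.2 (hfree h hh.1 hh.2.1 hh.2.2.1)
    have h4 := (Finset.card_le_card hsub).trans Finset.card_le_four
    have h4' : ({i, j, k, l} : Finset (Fin n)).card = 4 := by
      rw [Finset.card_insert_of_notMem (by simp [hij, hik, hil]),
        Finset.card_insert_of_notMem (by simp [hjk, hjl]),
        Finset.card_insert_of_notMem (by simp [hkl]), Finset.card_singleton]
    have h5 := Finset.card_le_univ ({i, j, k, l} : Finset (Fin n))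
    simp [h4'] at h4 h5
    omega

end Cfsg.Agent.Linear.Mult
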