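import Cfsg.Agent.Linear.Mult.Lifts
import Cfsg.Agent.H50.SchurRigid

/-!
Central extensions with kernel of prime order `l`: subgroups in whose preimage the kernel is not
a commutator ("killed" subgroups), and the transfer criterion for a trivial multiplier.
-/

set_option autoImplicit false

namespace Cfsg.Agent.Linear.Mult

open Subgroup
open scoped commutatorElement

universe u v w

/-- `G` has no stem extension with kernel of order `l`. -/
def NoStem (l : ℕ) (G : Type u) [Group G] : Prop :=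
  ∀ (Γ : Type u) [Group Γ] [Finite Γ] (σ : Γ →* G), Cfsg.IsStemExtension σ → Nat.card σ.ker ≠ l

/-- A power prime to `l` of every element is a product of commutators. -/
def AbCoprime {G : Type u} [Group G] (l : ℕ) (N : Subgroup G) : Prop :=
  ∃ k : ℕ, k.Coprime l ∧ ∀ x ∈ N, x ^ k ∈ ⁅N, N⁆

theorem mem_commutator_iff_of {G : Type u} [Group G] {N : Subgroup G} (x : N) :
    (x : G) ∈ ⁅N, N⁆ ↔ Abelianization.of x = 1 := by
  rw [← MonoidHom.mem_ker, Abelianization.ker_of, ← map_subtype_commutator N]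
  constructor
  · rintro ⟨y, hy, hyx⟩
    rwa [← Subtype.ext hyx]
  · exact fun h => ⟨x, h, rfl⟩

/-- If the power map lands in the derived subgroup on generators, it does so everywhere. -/
theorem pow_mem_commutator_of_closure {G : Type u} [Group G] {s : Set G} {N : Subgroup G}
    (hs : closure s = N) {k : ℕ} (h : ∀ g ∈ s, g ^ k ∈ ⁅N, N⁆) : ∀ x ∈ N, x ^ k ∈ ⁅N, N⁆ := by
  intro x hx
  suffices ∀ (hx : x ∈ N), Abelianization.of (⟨x, hx⟩ : N) ^ k = 1 by
    have h1 := this hx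
    rw [← map_pow] at h1
    exact (mem_commutator_iff_of (⟨x, hx⟩ ^ k)).2 h1
  have hx' := hx
  rw [← hs] at hx'
  clear hx
  induction hx' using Subgroup.closure_induction with
  | mem g hg =>
    intro hgN
    rw [← map_pow]
    exact (mem_commutator_iff_of (⟨g, hgN⟩ ^ k)).1 (h g hg)
  | one =>
    intro h1
    rw [show (⟨1, h1⟩ : N) = 1 from rfl, map_one, one_pow]
  | mul a b ha hb iha ihb =>
    intro hab
    rw [hs] at ha hb
    rw [show (⟨a * b, hab⟩ : N) = ⟨a, ha⟩ * ⟨b, hb⟩ from rfl, map_mul, mul_pow, iha, ihb, one_mul]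
  | inv a ha iha =>
    intro hai
    rw [hs] at ha
    rw [show (⟨a⁻¹, hai⟩ : N) = ⟨a, ha⟩⁻¹ from rfl, map_inv, inv_pow, iha, inv_one]

/-- A subgroup generated by elements of order prime to `l`. -/
theorem abCoprime_of_closure {G : Type u} [Group G] [Finite G] {l : ℕ} (hl : l.Prime) {s : Set G}
    {N : Subgroup G} (hs : closure s = N) (h : ∀ g ∈ s, ¬ l ∣ orderOf g) : AbCoprime l N := by
  classical
  haveI := Fintype.ofFinite G
  refine ⟨∏ g ∈ s.toFinset, orderOf g, ?_, pow_mem_commutator_of_closure hs fun g hg => ?_⟩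
  · exact Nat.Coprime.prod_left fun g hg =>
      (hl.coprime_iff_not_dvd.2 (h g (Set.mem_toFinset.1 hg))).symm
  · obtain ⟨c, hc⟩ := Finset.dvd_prod_of_mem orderOf (Set.mem_toFinset.2 hg)
    rw [hc, pow_mul, pow_orderOf_eq_one, one_pow]
    exact one_mem _

theorem abCoprime_of_perfect {G : Type u} [Group G] (l : ℕ) {N : Subgroup G} (h : ⁅N, N⁆ = N) :
    AbCoprime l N :=
  ⟨1, Nat.coprime_one_left l, fun x hx => by rw [pow_one, h]; exact hx⟩

theorem abCoprime_range {G : Type u} {K : Type v} [Group G] [Group K] {l : ℕ}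
    (h : AbCoprime l (⊤ : Subgroup K)) (f : K →* G) : AbCoprime l f.range := by
  obtain ⟨k, hk, hx⟩ := h
  refine ⟨k, hk, ?_⟩
  rintro _ ⟨y, rfl⟩
  rw [MonoidHom.range_eq_map, ← Subgroup.map_commutator, ← map_pow]
  exact mem_map_of_mem f (hx y (mem_top y))

/-- No stem extension with kernel of prime order means trivial multiplier. -/
theorem hasTrivialMultiplier_of_noStem {G : Type u} [Group G] [Finite G]
    (h : ∀ l : ℕ, l.Prime → NoStem l G) : Cfsg.HasCyclicSchurMultiplier G 1 := by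
  refine H50.hasTrivialMultiplier_iff.2 fun Γ _ _ σ hσ => ?_
  by_contra hne
  haveI : Nontrivial σ.ker := (Subgroup.nontrivial_iff_ne_bot _).2 hne
  obtain ⟨M, hM, -⟩ := (eq_top_or_exists_le_coatom (⊥ : Subgroup σ.ker)).resolve_left bot_ne_top
  have hcomm : ∀ a b : σ.ker, a * b = b * a := fun a b =>
    Subtype.ext (mem_center_iff.1 (hσ.2.1 b.2) a.1)
  have hMn : M.Normal := ⟨fun m hm g => by rw [hcomm g m, mul_inv_cancel_right]; exact hm⟩
  let N : Subgroup Γ := M.map σ.ker.subtype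
  have hNker : N ≤ σ.ker := map_subtype_le M
  have hN : N.Normal :=
    ⟨fun z hz g => by rw [mem_center_iff.1 (hσ.2.1 (hNker hz)) g, mul_inv_cancel_right]; exact hz⟩
  let τ := QuotientGroup.lift N σ hNker
  have hτ : Cfsg.IsStemExtension τ := by
    refine ⟨fun g => ?_, ?_, ?_⟩
    · obtain ⟨x, hx⟩ := hσ.1 g
      exact ⟨QuotientGroup.mk x, hx⟩
    · intro y hy
      obtain ⟨x, rfl⟩ := QuotientGroup.mk_surjective y
      rw [mem_center_iff]
      intro y'
      obtain ⟨x', rfl⟩ := QuotientGroup.mk_surjective y'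
      exact congrArg (QuotientGroup.mk' N) (mem_center_iff.1 (hσ.2.1 hy) x')
    · intro y hy
      obtain ⟨x, rfl⟩ := QuotientGroup.mk_surjective y
      rw [_root_.commutator_def,
        ← map_top_of_surjective (QuotientGroup.mk' N) (QuotientGroup.mk'_surjective N),
        ← map_commutator, ← _root_.commutator_def]
      exact mem_map_of_mem _ (hσ.2.2 hy)
  let θ : σ.ker →* τ.ker :=
    ((QuotientGroup.mk' N).comp σ.ker.subtype).codRestrict τ.ker fun z => z.2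
  have hθ : Function.Surjective θ := fun y => by
    obtain ⟨x, hx⟩ := QuotientGroup.mk_surjective (y : Γ ⧸ N)
    exact ⟨⟨x, by have := y.2; rwa [← hx] at this⟩, Subtype.ext hx⟩
  have hθk : θ.ker = M := by
    ext z
    rw [MonoidHom.mem_ker, ← OneMemClass.coe_eq_one]
    show QuotientGroup.mk' N (z : Γ) = 1 ↔ _
    rw [← MonoidHom.mem_ker, QuotientGroup.ker_mk']
    exact mem_map_iff_mem σ.ker.subtype_injective
  have hidx : Nat.card τ.ker = M.index := by
    rw [← hθk, Subgroup.index_ker, MonoidHom.range_eq_top.2 hθ, Subgroup.card_top]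
  let e : σ.ker ⧸ M ≃* τ.ker :=
    (QuotientGroup.quotientMulEquivOfEq hθk.symm).trans
      (QuotientGroup.quotientKerEquivOfSurjective θ hθ)
  let _ : CommGroup τ.ker := { (inferInstance : Group τ.ker) with
    mul_comm := fun a b => Subtype.ext (mem_center_iff.1 (hτ.2.1 b.2) a.1) }
  haveI : IsSimpleGroup τ.ker := by
    haveI : Nontrivial τ.ker := by
      rw [← Finite.one_lt_card_iff_nontrivial, hidx]
      exact Subgroup.one_lt_index_of_ne_top hM.1
    refine ⟨fun H _ => ?_⟩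
    have hMH : M ≤ H.comap θ := hθk ▸ ker_le_comap θ H
    rcases (hM.le_iff).1 hMH with h' | h'
    · right
      rw [← comap_top θ] at h'
      exact comap_injective hθ h'
    · left
      rw [← map_comap_eq_self_of_surjective hθ H, h', ← hθk]
      exact (Subgroup.map_eq_bot_iff _).2 le_rfl
  exact h _ IsSimpleGroup.prime_card (Γ ⧸ N) τ hτ rfl

/-- A central extension with kernel of prime order `l`. -/
structure LExt (l : ℕ) (X : Type u) (G : Type v) [Group X] [Group G] extends CExtData X G where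
  hl : l.Prime
  card_ker : Nat.card proj.ker = l

namespace LExt

variable {l : ℕ} {X : Type u} {G : Type v} [Group X] [Group G] (E : LExt l X G)

/-- The preimage. -/
abbrev pre (H : Subgroup G) : Subgroup X := H.comap E.proj

/-- No kernel element other than `1` is a commutator in the preimage of `H`. -/
def Killed (H : Subgroup G) : Prop :=
  ∀ z ∈ ⁅E.pre H, E.pre H⁆, E.proj z = 1 → z = 1

theorem ker_central {z : X} (hz : E.proj z = 1) (x : X) : x * z = z * x :=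
  mem_center_iff.1 (E.central hz) x

theorem ker_pow {z : X} (hz : E.proj z = 1) : z ^ l = 1 := by
  have h := pow_card_eq_one' (x := (⟨z, hz⟩ : E.proj.ker))
  rw [E.card_ker] at h
  exact congrArg Subtype.val h

theorem eq_one_of_pow {z : X} (hz : E.proj z = 1) {k : ℕ} (hk : k.Coprime l) (h : z ^ k = 1) :
    z = 1 := by
  have := pow_gcd_eq_one.2 ⟨h, E.ker_pow hz⟩
  rwa [hk.gcd_eq_one, pow_one] at this

theorem exists_root {z : X} (hz : E.proj z = 1) {k : ℕ} (hk : k.Coprime l) :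
    ∃ z₁, E.proj z₁ = 1 ∧ z₁ ^ k = z := by
  obtain ⟨m, hm⟩ := exists_pow_eq_self_of_coprime (x := z)
    (hk.of_dvd_right (orderOf_dvd_of_pow_eq_one (E.ker_pow hz)))
  exact ⟨z ^ m, by rw [map_pow, hz, one_pow], by rw [← pow_mul, mul_comm, pow_mul, hm]⟩

variable {E}

theorem Killed.mono {H K : Subgroup G} (h : E.Killed H) (hKH : K ≤ H) : E.Killed K :=
  fun z hz => h z (commutator_mono (comap_mono hKH) (comap_mono hKH) hz)

theorem Killed.cm_eq_one {H : Subgroup G} (h : E.Killed H) {a b : G} (ha : a ∈ H) (hb : b ∈ H)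
    (hab : Commute a b) : E.cm a b = 1 :=
  h _ (commutator_mem_commutator
      (show E.proj (E.lift a) ∈ H by rw [E.proj_lift]; exact ha)
      (show E.proj (E.lift b) ∈ H by rw [E.proj_lift]; exact hb))
    (by rw [E.proj_cm, commutatorElement_eq_one_iff_commute.2 hab])

/-- Elements of commutators with the same image agree. -/
theorem Killed.eq_of_proj {H : Subgroup G} (h : E.Killed H) {x y : X}
    (hx : x ∈ ⁅E.pre H, E.pre H⁆) (hy : y ∈ ⁅E.pre H, E.pre H⁆) (hxy : E.proj x = E.proj y) :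
    x = y :=
  mul_inv_eq_one.1 (h _ (mul_mem hx (inv_mem hy)) (by rw [map_mul, map_inv, hxy, mul_inv_cancel]))

variable (E)

/-- Commuting elements of coprime order have commuting lifts. -/
theorem cm_eq_one_of_coprime {g h : G} (hgh : Commute g h)
    (hco : (orderOf g).Coprime (orderOf h)) : E.cm g h = 1 := by
  have hl : ∀ m : ℕ, E.cm (g ^ m) h = E.cm g h ^ m := fun m => by
    induction m with
    | zero => rw [pow_zero, pow_zero, E.cm_one_left]
    | succ m ih => rw [pow_succ', E.cm_mul_left_of_commute (hgh.pow_left m), ih, pow_succ]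
  have hr : ∀ m : ℕ, E.cm g (h ^ m) = E.cm g h ^ m := fun m => by
    induction m with
    | zero => rw [pow_zero, pow_zero, E.cm_one_right]
    | succ m ih => rw [pow_succ, E.cm_mul_right_of_commute hgh, ih, pow_succ]
  have h1 := hl (orderOf g)
  have h2 := hr (orderOf h)
  rw [pow_orderOf_eq_one, E.cm_one_left] at h1
  rw [pow_orderOf_eq_one, E.cm_one_right] at h2
  have h3 := pow_gcd_eq_one.2 ⟨h1.symm, h2.symm⟩
  rwa [hco.gcd_eq_one, pow_one] at h3

/-- A subgroup with abelianisation prime to `l` lifts commuting with commuting elements. -/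
theorem cm_eq_one_of_abCoprime {N : Subgroup G} (hN : AbCoprime l N) {b : G}
    (hb : ∀ a ∈ N, Commute a b) {a : G} (ha : a ∈ N) : E.cm a b = 1 := by
  obtain ⟨k, hk, hkN⟩ := hN
  have h1 : ∀ x ∈ ⁅N, N⁆, E.cm x b = 1 := by
    intro x hx
    suffices hb : x ∈ N ∧ E.cm x b = 1 from hb.2
    rw [Subgroup.commutator_def] at hx
    induction hx using Subgroup.closure_induction with
    | mem x hx =>
      obtain ⟨c, hc, d, hd, rfl⟩ := hx
      refine ⟨mul_mem (mul_mem (mul_mem hc hd) (inv_mem hc)) (inv_mem hd), ?_⟩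
      exact E.cm_symm (E.cm_commutator_eq_one (hb c hc).symm (hb d hd).symm)
    | one => exact ⟨one_mem N, E.cm_one_left b⟩
    | mul x y _ _ ihx ihy =>
      exact ⟨mul_mem ihx.1 ihy.1,
        by rw [E.cm_mul_left_of_commute (hb y ihy.1), ihx.2, ihy.2, one_mul]⟩
    | inv x _ ihx =>
      refine ⟨inv_mem ihx.1, ?_⟩
      have := E.cm_mul_left_of_commute (g := x) (hb x⁻¹ (inv_mem ihx.1))
      rwa [mul_inv_cancel, E.cm_one_left, ihx.2, mul_one, eq_comm] at this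
  have h2 : ∀ m : ℕ, E.cm (a ^ m) b = E.cm a b ^ m := fun m => by
    induction m with
    | zero => rw [pow_zero, pow_zero, E.cm_one_left]
    | succ m ih => rw [pow_succ', E.cm_mul_left_of_commute ((hb a ha).pow_left m), ih, pow_succ]
  refine E.eq_one_of_pow (by rw [E.proj_cm, commutatorElement_eq_one_iff_commute.2 (hb a ha)]) hk ?_
  rw [← h2, h1 _ (hkN a ha)]

/-- The canonical lift of a killed subgroup with abelianisation prime to `l`. -/
def lft (N : Subgroup G) : Subgroup X where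
  carrier := {x | x ∈ E.pre N ∧ ∃ k : ℕ, k.Coprime l ∧ x ^ k ∈ ⁅E.pre N, E.pre N⁆}
  one_mem' := ⟨one_mem _, 1, Nat.coprime_one_left l, by rw [pow_one]; exact one_mem _⟩
  mul_mem' := by
    rintro x y ⟨hx, k, hk, hxk⟩ ⟨hy, m, hm, hym⟩
    refine ⟨mul_mem hx hy, k * m, Nat.Coprime.mul_left hk hm, ?_⟩
    have e1 := (mem_commutator_iff_of ((⟨x, hx⟩ : E.pre N) ^ k)).1 hxk
    have e2 := (mem_commutator_iff_of ((⟨y, hy⟩ : E.pre N) ^ m)).1 hym
    refine (mem_commutator_iff_of (((⟨x, hx⟩ : E.pre N) * ⟨y, hy⟩) ^ (k * m))).2 ?_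
    rw [map_pow] at e1 e2 ⊢
    rw [map_mul, mul_pow, pow_mul, e1, one_pow, one_mul, mul_comm k m, pow_mul, e2, one_pow]
  inv_mem' := by
    rintro x ⟨hx, k, hk, hxk⟩
    exact ⟨inv_mem hx, k, hk, by rw [inv_pow]; exact inv_mem hxk⟩

theorem lft_le (N : Subgroup G) : E.lft N ≤ E.pre N := fun _ hx => hx.1

theorem commutator_le_lft (N : Subgroup G) : ⁅E.pre N, E.pre N⁆ ≤ E.lft N := fun x hx =>
  ⟨commutator_le_self _ hx, 1, Nat.coprime_one_left l, by rwa [pow_one]⟩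

theorem lft_eq_one {N : Subgroup G} (hN : E.Killed N) {x : X} (hx : x ∈ E.lft N)
    (h : E.proj x = 1) : x = 1 := by
  obtain ⟨-, k, hk, hxk⟩ := hx
  exact E.eq_one_of_pow h hk (hN _ hxk (by rw [map_pow, h, one_pow]))

theorem map_pre (N : Subgroup G) : (E.pre N).map E.proj = N :=
  map_comap_eq_self_of_surjective E.surj N

theorem exists_lft {N : Subgroup G} (hN : AbCoprime l N) {g : G} (hg : g ∈ N) :
    ∃ x ∈ E.lft N, E.proj x = g := by
  obtain ⟨k, hk, hkN⟩ := hN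
  obtain ⟨a, ha⟩ := E.surj g
  have hgk := hkN g hg
  rw [← E.map_pre N, ← Subgroup.map_commutator] at hgk
  obtain ⟨d, hd, hdg⟩ := hgk
  obtain ⟨z, hz, hzk⟩ := E.exists_root (z := d⁻¹ * a ^ k)
    (by rw [map_mul, map_inv, map_pow, hdg, ha, inv_mul_cancel]) hk
  refine ⟨a * z⁻¹, ⟨?_, k, hk, ?_⟩, by rw [map_mul, map_inv, hz, inv_one, mul_one, ha]⟩
  · show E.proj (a * z⁻¹) ∈ N
    rw [map_mul, map_inv, hz, inv_one, mul_one, ha]
    exact hg
  · rw [(show Commute a z⁻¹ from (show Commute a z from E.ker_central hz a).inv_right).mul_pow,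
      inv_pow, hzk, mul_inv_rev, inv_inv, mul_inv_cancel_left]
    exact hd

theorem exists_lft_mul {N : Subgroup G} (hN : AbCoprime l N) {a : X} (ha : E.proj a ∈ N) :
    ∃ s ∈ E.lft N, ∃ z, E.proj z = 1 ∧ a = s * z := by
  obtain ⟨s, hs, hsa⟩ := E.exists_lft hN ha
  exact ⟨s, hs, s⁻¹ * a, by rw [map_mul, map_inv, hsa, inv_mul_cancel],
    (mul_inv_cancel_left _ _).symm⟩

theorem conj_mem_lft {N : Subgroup G} {y x : X}
    (hy : ∀ a ∈ N, E.proj y * a * (E.proj y)⁻¹ ∈ N) (hx : x ∈ E.lft N) :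
    y * x * y⁻¹ ∈ E.lft N := by
  obtain ⟨hxN, k, hk, hxk⟩ := hx
  have hmap : ∀ a ∈ E.pre N, y * a * y⁻¹ ∈ E.pre N := fun a ha => by
    show E.proj _ ∈ N
    rw [map_mul, map_mul, map_inv]
    exact hy _ ha
  refine ⟨hmap x hxN, k, hk, ?_⟩
  rw [conj_pow]
  have : (⁅E.pre N, E.pre N⁆).map (MulAut.conj y).toMonoidHom ≤ ⁅E.pre N, E.pre N⁆ := by
    rw [map_commutator]
    refine commutator_mono ?_ ?_ <;>
    · rintro _ ⟨a, ha, rfl⟩
      exact hmap a ha
  exact this (mem_map_of_mem _ hxk)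

variable {E}

theorem killed_zpowers (g : G) : E.Killed (zpowers g) := by
  intro z hz _
  have : ⁅E.pre (zpowers g), E.pre (zpowers g)⁆ = ⊥ := by
    rw [eq_bot_iff, commutator_le]
    intro a ha b hb
    obtain ⟨i, hi⟩ := mem_zpowers_iff.1 (show E.proj a ∈ zpowers g from ha)
    obtain ⟨j, hj⟩ := mem_zpowers_iff.1 (show E.proj b ∈ zpowers g from hb)
    rw [mem_bot, E.cm_eq (a := a) (b := b) rfl rfl, ← hi, ← hj]
    refine E.cm_eq_one_of_commute (a := E.lift g ^ i) (b := E.lift g ^ j) ?_ ?_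
      (Commute.zpow_zpow_self _ _ _)
    · rw [map_zpow, E.proj_lift]
    · rw [map_zpow, E.proj_lift]
  rw [this] at hz
  exact mem_bot.1 hz

/-- Extension by a cyclic group. -/
theorem killed_of_cyclic_quotient {H N : Subgroup G} (hN : E.Killed N) (hab : AbCoprime l N)
    (hnorm : ∀ h ∈ H, ∀ a ∈ N, h * a * h⁻¹ ∈ N) (c : G) (hc : c ∈ H)
    (hgen : ∀ h ∈ H, ∃ i : ℤ, h * c ^ i ∈ N) : E.Killed H := by
  obtain ⟨y, rfl⟩ := E.surj c
  have key : ∀ a ∈ E.pre H, ∃ s ∈ E.lft N, ∃ i : ℤ, ∃ z, E.proj z = 1 ∧ a = s * y ^ i * z := by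
    intro a ha
    obtain ⟨i, hi⟩ := hgen _ ha
    rw [← map_zpow, ← map_mul] at hi
    obtain ⟨s, hs, z, hz, he⟩ := E.exists_lft_mul hab hi
    refine ⟨s, hs, -i, z, hz, ?_⟩
    rw [mul_assoc, E.ker_central hz (y ^ (-i)), ← mul_assoc, ← he, zpow_neg, mul_inv_cancel_right]
  have hconj : ∀ (i : ℤ), ∀ s ∈ E.lft N, y ^ i * s * (y ^ i)⁻¹ ∈ E.lft N := fun i s hs =>
    E.conj_mem_lft (fun a ha => hnorm _ (by rw [map_zpow]; exact zpow_mem hc i) a ha) hs
  have hle : ⁅E.pre H, E.pre H⁆ ≤ E.lft N := by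
    rw [commutator_le]
    intro a ha b hb
    obtain ⟨s, hs, i, z, hz, rfl⟩ := key a ha
    obtain ⟨t, ht, j, z', hz', rfl⟩ := key b hb
    have e : ⁅s * y ^ i * z, t * y ^ j * z'⁆ =
        s * (y ^ i * t * (y ^ i)⁻¹) * (y ^ j * s⁻¹ * (y ^ j)⁻¹) * t⁻¹ := by
      rw [E.cm_eq (a := s * y ^ i * z) (b := t * y ^ j * z') rfl rfl,
        ← E.cm_eq (a := s * y ^ i) (b := t * y ^ j) (by rw [map_mul _ (s * y ^ i), hz, mul_one])
          (by rw [map_mul _ (t * y ^ j), hz', mul_one]), commutatorElement_def]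
      have hcom : y ^ j * (y ^ i)⁻¹ = (y ^ i)⁻¹ * y ^ j := by
        rw [← zpow_neg, ← zpow_add, ← zpow_add, add_comm]
      calc s * y ^ i * (t * y ^ j) * (s * y ^ i)⁻¹ * (t * y ^ j)⁻¹
          = s * y ^ i * t * (y ^ j * (y ^ i)⁻¹) * s⁻¹ * (y ^ j)⁻¹ * t⁻¹ := by group
        _ = _ := by rw [hcom]; group
    rw [e]
    exact mul_mem (mul_mem (mul_mem hs (hconj i t ht)) (hconj j _ (inv_mem hs))) (inv_mem ht)
  exact fun z hz h1 => E.lft_eq_one hN (hle hz) h1

/-- Two commuting killed subgroups meeting trivially. -/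
theorem killed_sup {A B : Subgroup G} (hA : E.Killed A) (hB : E.Killed B) (hAab : AbCoprime l A)
    (hBab : AbCoprime l B) (hcomm : ∀ a ∈ A, ∀ b ∈ B, Commute a b) (hdisj : A ⊓ B = ⊥) :
    E.Killed (A ⊔ B) := by
  have hA' : ∀ a ∈ A, ∀ b ∈ B, ∀ x y : X, E.proj x = a → E.proj y = b → Commute x y :=
    fun a ha b hb x y hx hy => E.commute_of_cm
      (E.cm_eq_one_of_abCoprime hAab (fun a' ha' => hcomm a' ha' b hb) ha) hx hy
  have hmem : ∀ g ∈ A ⊔ B, ∃ a ∈ A, ∃ b ∈ B, a * b = g := by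
    intro g hg
    have hle : B ≤ normalizer (A : Set G) := fun b hb => by
      rw [mem_normalizer_iff]
      intro a
      constructor
      · intro ha
        rw [← (hcomm a ha b hb).eq, mul_inv_cancel_right]
        exact ha
      · intro ha
        have h2 := (hcomm _ ha b hb).eq
        have h3 : b * a * b⁻¹ = a := by
          refine mul_left_cancel (a := b) ?_
          rw [← h2]; group
        rwa [h3] at ha
    rw [← SetLike.mem_coe, Subgroup.coe_mul_of_right_le_normalizer_left A B hle] at hg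
    exact hg
  have key : ∀ x ∈ E.pre (A ⊔ B), ∃ a ∈ E.pre A, ∃ b ∈ E.pre B, x = a * b := by
    intro x hx
    obtain ⟨a, ha, b, hb, hab⟩ := hmem _ hx
    obtain ⟨a', rfl⟩ := E.surj a
    refine ⟨a', ha, a'⁻¹ * x, ?_, (mul_inv_cancel_left _ _).symm⟩
    show E.proj (a'⁻¹ * x) ∈ B
    rw [map_mul, map_inv, ← hab, inv_mul_cancel_left]
    exact hb
  have cAB : ∀ a ∈ E.pre A, ∀ b ∈ E.pre B, Commute a b := fun a ha b hb =>
    hA' _ ha _ hb a b rfl rfl
  have hle : ∀ z ∈ ⁅E.pre (A ⊔ B), E.pre (A ⊔ B)⁆,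
      ∃ s ∈ ⁅E.pre A, E.pre A⁆, ∃ t ∈ ⁅E.pre B, E.pre B⁆, z = s * t := by
    intro z hz
    rw [Subgroup.commutator_def] at hz
    induction hz using Subgroup.closure_induction with
    | mem z hz =>
      obtain ⟨x, hx, y, hy, rfl⟩ := hz
      obtain ⟨a, ha, b, hb, rfl⟩ := key x hx
      obtain ⟨c, hc, d, hd, rfl⟩ := key y hy
      refine ⟨_, commutator_mem_commutator ha hc, _, commutator_mem_commutator hb hd, ?_⟩
      simp only [commutatorElement_def]
      have h1 := (cAB c hc b hb).eq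
      have h2 := ((cAB a⁻¹ (inv_mem ha) d hd)).eq
      have h3 := ((cAB c⁻¹ (inv_mem hc) (b * d * b⁻¹) (mul_mem (mul_mem hb hd) (inv_mem hb)))).eq
      have h4 := ((cAB a⁻¹ (inv_mem ha) b⁻¹ (inv_mem hb))).eq
      calc a * b * (c * d) * (a * b)⁻¹ * (c * d)⁻¹
          = a * (b * c) * d * (b⁻¹ * a⁻¹) * d⁻¹ * c⁻¹ := by group
        _ = a * (c * b) * d * (a⁻¹ * b⁻¹) * d⁻¹ * c⁻¹ := by rw [h1, h4]
        _ = a * c * b * (d * a⁻¹) * b⁻¹ * d⁻¹ * c⁻¹ := by group
        _ = a * c * b * (a⁻¹ * d) * b⁻¹ * d⁻¹ * c⁻¹ := by rw [h2]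
        _ = a * c * (b * a⁻¹) * (d * b⁻¹ * d⁻¹ * c⁻¹) := by group
        _ = a * c * (a⁻¹ * b) * (d * b⁻¹ * d⁻¹ * c⁻¹) := by
          rw [(cAB a⁻¹ (inv_mem ha) b hb).eq]
        _ = a * c * a⁻¹ * ((b * d * b⁻¹) * (d⁻¹ * c⁻¹)) := by group
        _ = a * c * a⁻¹ * ((b * d * b⁻¹) * (c⁻¹ * d⁻¹)) := by
          rw [(cAB c⁻¹ (inv_mem hc) d⁻¹ (inv_mem hd)).eq]
        _ = a * c * a⁻¹ * ((b * d * b⁻¹ * c⁻¹) * d⁻¹) := by group
        _ = a * c * a⁻¹ * ((c⁻¹ * (b * d * b⁻¹)) * d⁻¹) := by rw [h3]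
        _ = _ := by group
    | one => exact ⟨1, one_mem _, 1, one_mem _, (one_mul _).symm⟩
    | mul x y _ _ ihx ihy =>
      obtain ⟨s, hs, t, ht, rfl⟩ := ihx
      obtain ⟨s', hs', t', ht', rfl⟩ := ihy
      refine ⟨s * s', mul_mem hs hs', t * t', mul_mem ht ht', ?_⟩
      have := (cAB s' (commutator_le_self _ hs') t (commutator_le_self _ ht)).eq
      calc s * t * (s' * t') = s * (t * s') * t' := by group
        _ = s * (s' * t) * t' := by rw [this]
        _ = _ := by group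
    | inv x _ ihx =>
      obtain ⟨s, hs, t, ht, rfl⟩ := ihx
      refine ⟨s⁻¹, inv_mem hs, t⁻¹, inv_mem ht, ?_⟩
      rw [← mul_inv_rev]
      exact congrArg Inv.inv (cAB s (commutator_le_self _ hs) t (commutator_le_self _ ht)).eq
  intro z hz h1
  obtain ⟨s, hs, t, ht, rfl⟩ := hle z hz
  rw [map_mul] at h1
  have hsA : E.proj s ∈ A := (commutator_le_self _ hs :)
  have hsB : E.proj s ∈ B := by
    rw [eq_inv_of_mul_eq_one_left h1]; exact inv_mem (commutator_le_self (E.pre B) ht :)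
  have : E.proj s = 1 := mem_bot.1 (hdisj ▸ ⟨hsA, hsB⟩)
  rw [this, one_mul] at h1
  rw [hA s hs this, hB t ht h1, one_mul]

theorem abCoprime_sup {A B : Subgroup G} (hA : AbCoprime l A) (hB : AbCoprime l B) :
    AbCoprime l (A ⊔ B) := by
  obtain ⟨k, hk, hkA⟩ := hA
  obtain ⟨m, hm, hmB⟩ := hB
  refine ⟨k * m, Nat.Coprime.mul_left hk hm,
    pow_mem_commutator_of_closure (s := (A : Set G) ∪ B) ?_ ?_⟩
  · rw [Subgroup.closure_union, closure_eq, closure_eq]
  · rintro g (hg | hg)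
    · rw [pow_mul]
      exact pow_mem (commutator_mono le_sup_left le_sup_left (hkA g hg)) m
    · rw [mul_comm, pow_mul]
      exact pow_mem (commutator_mono le_sup_right le_sup_right (hmB g hg)) k

/-- Extension of an abelian section by a cyclic group. -/
theorem killed_abelian_cyclic [Finite G] {H A N : Subgroup G} (hN : E.Killed N)
    (hab : AbCoprime l N) (hAN : ∀ a ∈ A, ∀ x ∈ N, a * x * a⁻¹ ∈ N) (σ : G)
    (hσN : ∀ x ∈ N, σ * x * σ⁻¹ ∈ N) (hσA : ∀ a ∈ A, σ * a * σ⁻¹ ∈ A)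
    (hA : ∀ a ∈ A, ∀ b ∈ A, E.cm a b ∈ E.lft N)
    (hfix : ∀ a ∈ A, ⁅σ, a⁆ ∈ N → ∃ x ∈ N, ∃ a₀, a = x * a₀ ∧ E.cm σ a₀ = 1)
    (hgen : ∀ h ∈ H, ∃ i : ℕ, ∃ a ∈ A, h = a * σ ^ i) : E.Killed H := by
  obtain ⟨S, rfl⟩ := E.surj σ
  have nS : ∀ s ∈ E.lft N, S * s * S⁻¹ ∈ E.lft N := fun s hs => E.conj_mem_lft hσN hs
  have nA : ∀ a ∈ E.pre A, ∀ s ∈ E.lft N, a * s * a⁻¹ ∈ E.lft N := fun a ha s hs =>
    E.conj_mem_lft (hAN _ ha) hs
  have cA : ∀ a ∈ E.pre A, ∀ b ∈ E.pre A, a * b * a⁻¹ * b⁻¹ ∈ E.lft N := fun a ha b hb => by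
    rw [← commutatorElement_def, E.cm_eq (a := a) (b := b) rfl rfl]
    exact hA _ ha _ hb
  have sA : ∀ a ∈ E.pre A, S * a * S⁻¹ ∈ E.pre A := fun a ha => by
    show E.proj (S * a * S⁻¹) ∈ A
    rw [map_mul, map_mul, map_inv]
    exact hσA _ ha
  have fA : ∀ a ∈ E.pre A, ⁅S, a⁆ ∈ E.pre A := fun a ha => mul_mem (sA a ha) (inv_mem ha)
  let M : Set X := {x | ∃ s ∈ E.lft N, ∃ a ∈ E.pre A, x = s * ⁅S, a⁆}
  have hMS : ∀ s ∈ E.lft N, s ∈ M := fun s hs =>
    ⟨s, hs, 1, one_mem _, by rw [commutatorElement_one_right, mul_one]⟩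
  -- conjugation by elements of `A` fixes `⁅S, a⁆` modulo the lift of `N`
  have cf : ∀ b ∈ E.pre A, ∀ a ∈ E.pre A,
      ∃ s ∈ E.lft N, b * ⁅S, a⁆ * b⁻¹ = s * ⁅S, a⁆ := fun b hb a ha =>
    ⟨_, cA b hb _ (fA a ha), by rw [inv_mul_cancel_right]⟩
  have hmul : ∀ x ∈ M, ∀ y ∈ M, x * y ∈ M := by
    rintro x ⟨s, hs, a, ha, rfl⟩ y ⟨t, ht, b, hb, rfl⟩
    obtain ⟨w, hw, hwe⟩ := cf a ha b hb
    refine ⟨s * (⁅S, a⁆ * (t * w⁻¹) * ⁅S, a⁆⁻¹),
      mul_mem hs (nA _ (fA a ha) _ (mul_mem ht (inv_mem hw))), a * b, mul_mem ha hb, ?_⟩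
    have e : ⁅S, a * b⁆ = ⁅S, a⁆ * (a * ⁅S, b⁆ * a⁻¹) := by
      simp only [commutatorElement_def]; group
    rw [e, hwe]
    group
  have hconjA : ∀ b ∈ E.pre A, ∀ x ∈ M, b * x * b⁻¹ ∈ M := by
    rintro b hb x ⟨s, hs, a, ha, rfl⟩
    obtain ⟨w, hw, hwe⟩ := cf b hb a ha
    refine ⟨b * s * b⁻¹ * w, mul_mem (nA b hb s hs) hw, a, ha, ?_⟩
    rw [mul_assoc _ w, ← hwe]
    group
  have hconjS : ∀ x ∈ M, S * x * S⁻¹ ∈ M := by
    rintro x ⟨s, hs, a, ha, rfl⟩
    exact ⟨_, nS s hs, _, sA a ha, by simp only [commutatorElement_def]; group⟩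
  have hpow : ∀ (i : ℕ), ∀ b ∈ E.pre A, ⁅S ^ i, b⁆ ∈ M := by
    intro i
    induction i with
    | zero =>
      intro b _
      rw [pow_zero, commutatorElement_one_left]
      exact hMS 1 (one_mem _)
    | succ i ih =>
      intro b hb
      rw [show ⁅S ^ (i + 1), b⁆ = S * ⁅S ^ i, b⁆ * S⁻¹ * ⁅S, b⁆ by
        simp only [commutatorElement_def, pow_succ']; group]
      exact hmul _ (hconjS _ (ih b hb)) _ ⟨1, one_mem _, b, hb, (one_mul _).symm⟩
  have key : ∀ x ∈ E.pre H, ∃ i : ℕ, ∃ a ∈ E.pre A, x = a * S ^ i := by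
    intro x hx
    obtain ⟨i, a, ha, he⟩ := hgen _ hx
    refine ⟨i, x * (S ^ i)⁻¹, ?_, (inv_mul_cancel_right _ _).symm⟩
    show E.proj _ ∈ A
    rw [map_mul, map_inv, map_pow, he, mul_inv_cancel_right]
    exact ha
  have hgens : ∀ x ∈ E.pre H, ∀ y ∈ E.pre H, ⁅x, y⁆ ∈ M := by
    intro x hx y hy
    obtain ⟨i, a, ha, rfl⟩ := key x hx
    obtain ⟨j, b, hb, rfl⟩ := key y hy
    have e : ⁅a * S ^ i, b * S ^ j⁆ =
        (a * ⁅S ^ i, b⁆ * a⁻¹) * (a * b * a⁻¹ * b⁻¹) * (b * (a * ⁅S ^ j, a⁻¹⁆ * a⁻¹) * b⁻¹) := by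
      simp only [commutatorElement_def]
      have hc : S ^ j * (S ^ i)⁻¹ = (S ^ i)⁻¹ * S ^ j :=
        (((Commute.refl S).pow_pow j i).inv_right).eq
      calc a * S ^ i * (b * S ^ j) * (a * S ^ i)⁻¹ * (b * S ^ j)⁻¹
          = a * S ^ i * b * (S ^ j * (S ^ i)⁻¹) * a⁻¹ * (S ^ j)⁻¹ * b⁻¹ := by group
        _ = _ := by rw [hc]; group
    rw [e]
    exact hmul _ (hmul _ (hconjA a ha _ (hpow i b hb)) _ (hMS _ (cA a ha b hb))) _
      (hconjA b hb _ (hconjA a ha _ (hpow j a⁻¹ (inv_mem ha))))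
  have hinv : ∀ x ∈ M, x⁻¹ ∈ M := by
    rintro x ⟨s, hs, a, ha, rfl⟩
    obtain ⟨w, hw, hwe⟩ := cf a⁻¹ (inv_mem ha) a ha
    have e : ⁅S, a⁻¹⁆⁻¹ = a⁻¹ * ⁅S, a⁆ * a⁻¹⁻¹ := by
      simp only [commutatorElement_def]; group
    rw [hwe] at e
    have e2 : ⁅S, a⁆⁻¹ = ⁅S, a⁻¹⁆ * w := by
      have := congrArg Inv.inv e
      rw [inv_inv, mul_inv_rev] at this
      rw [this, inv_mul_cancel_right]
    rw [mul_inv_rev, e2]
    refine ⟨⁅S, a⁻¹⁆ * (w * s⁻¹) * ⁅S, a⁻¹⁆⁻¹,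
      nA _ (fA _ (inv_mem ha)) _ (mul_mem hw (inv_mem hs)), a⁻¹, inv_mem ha, ?_⟩
    group
  let MS : Subgroup X :=
    { carrier := M, one_mem' := hMS 1 (one_mem _), mul_mem' := fun hx hy => hmul _ hx _ hy,
      inv_mem' := fun hx => hinv _ hx }
  have hle : ⁅E.pre H, E.pre H⁆ ≤ MS := commutator_le.2 hgens
  intro z hz h1
  obtain ⟨s, hs, a, ha, rfl⟩ := hle hz
  rw [map_mul, map_commutatorElement] at h1
  have hN' : ⁅E.proj S, E.proj a⁆ ∈ N := by
    rw [eq_inv_of_mul_eq_one_right h1]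
    exact inv_mem (E.lft_le N hs)
  obtain ⟨x, hx, a₀, ha₀, hcm⟩ := hfix _ ha hN'
  obtain ⟨x', hx', hxx⟩ := E.exists_lft hab hx
  have hb : E.proj (x'⁻¹ * a) = a₀ := by rw [map_mul, map_inv, hxx, ha₀, inv_mul_cancel_left]
  have hcom : S * (x'⁻¹ * a) = (x'⁻¹ * a) * S := (E.commute_of_cm hcm rfl hb).eq
  have e : ⁅S, a⁆ = S * x' * S⁻¹ * x'⁻¹ := by
    rw [commutatorElement_def]
    calc S * a * S⁻¹ * a⁻¹ = S * x' * S⁻¹ * (S * (x'⁻¹ * a)) * S⁻¹ * a⁻¹ := by group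
      _ = S * x' * S⁻¹ * ((x'⁻¹ * a) * S) * S⁻¹ * a⁻¹ := by rw [hcom]
      _ = _ := by group
  refine E.lft_eq_one hN ?_ (by rw [map_mul, map_commutatorElement]; exact h1)
  rw [e]
  exact mul_mem hs (mul_mem (nS _ hx') (inv_mem hx'))

variable (E)

/-- A subgroup isomorphic to a group without stem extension by `l` is killed. -/
theorem killed_of_noStem [Finite X] {K : Type u} [Group K] [Finite K] (hK : NoStem l K)
    (f : K →* G) (hf : Function.Injective f) : E.Killed f.range := by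
  intro z hz h1
  by_contra hne
  let P : Subgroup (X × K) :=
    (E.proj.comp (MonoidHom.fst X K)).eqLocus (f.comp (MonoidHom.snd X K))
  let σ : P →* K := (MonoidHom.snd X K).comp P.subtype
  let φ : P →* X := (MonoidHom.fst X K).comp P.subtype
  have hker : ∀ a : P, σ a = 1 → E.proj (φ a) = 1 := fun a ha => by
    have h2 : a.1.2 = 1 := ha
    exact a.2.trans (show f a.1.2 = 1 by rw [h2, map_one])
  have hφ : φ.range = E.pre f.range := by
    ext x
    constructor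
    · rintro ⟨a, rfl⟩
      exact ⟨a.1.2, a.2.symm⟩
    · rintro ⟨k, hk⟩
      exact ⟨⟨(x, k), hk.symm⟩, rfl⟩
  rw [← hφ, MonoidHom.range_eq_map, ← map_commutator] at hz
  obtain ⟨w, hw, hwz⟩ := hz
  rw [← hwz] at h1 hne
  have hw1 : w.1.2 = 1 := hf (by rw [map_one]; exact w.2.symm.trans h1)
  let e : σ.ker ≃ E.proj.ker :=
    { toFun := fun a => ⟨φ a.1, hker a.1 a.2⟩
      invFun := fun y => ⟨⟨(y.1, 1), show E.proj y.1 = f 1 by rw [map_one]; exact y.2⟩, rfl⟩
      left_inv := fun a => Subtype.ext (Subtype.ext (Prod.ext rfl a.2.symm))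
      right_inv := fun y => rfl }
  have hcard : Nat.card σ.ker = l := (Nat.card_congr e).trans E.card_ker
  haveI := Fact.mk E.hl
  have hgen : zpowers (⟨w, hw1⟩ : σ.ker) = ⊤ :=
    zpowers_eq_top_of_prime_card hcard fun e' => hne (by
      rw [show w = 1 from congrArg Subtype.val e', map_one])
  refine hK P σ ⟨fun k => ?_, fun a ha => ?_, fun a ha => ?_⟩ hcard
  · obtain ⟨x, hx⟩ := E.surj (f k)
    exact ⟨⟨(x, k), hx⟩, rfl⟩
  · rw [mem_center_iff]
    intro b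
    have h2 : a.1.2 = 1 := ha
    refine Subtype.ext (Prod.ext (E.ker_central (hker a ha) b.1.1) ?_)
    show b.1.2 * a.1.2 = a.1.2 * b.1.2
    rw [h2, one_mul, mul_one]
  · obtain ⟨i, hi⟩ := mem_zpowers_iff.1 (hgen ▸ mem_top (⟨a, ha⟩ : σ.ker))
    rw [show a = w ^ i from (congrArg Subtype.val hi).symm]
    exact zpow_mem (by rwa [commutator_def] : w ∈ commutator P) i

end LExt

/-- Transfer: a killed subgroup of index prime to `l` excludes stem extensions by `l`. -/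
theorem noStem_of_killed {l : ℕ} {G : Type u} [Group G] (hl : l.Prime)
    (h : ∀ (Γ : Type u) [Group Γ] [Finite Γ] (E : LExt l Γ G),
      ∃ H : Subgroup G, E.Killed H ∧ ¬ l ∣ H.index) : NoStem l G := by
  intro Γ _ _ σ hσ hcard
  obtain ⟨H, hH, hidx⟩ := h Γ ⟨⟨σ, hσ.1, hσ.2.1⟩, hl, hcard⟩
  haveI := Fact.mk hl
  obtain ⟨z, hz⟩ := exists_prime_orderOf_dvd_card' (G := σ.ker) l (by rw [hcard])
  obtain ⟨hzH, hzc⟩ := H50.mem_commutator_comap hσ (p := l) H (hl.coprime_iff_not_dvd.2 hidx) z z.2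
    (by rw [← SubgroupClass.coe_pow, ← hz, pow_orderOf_eq_one]; rfl)
  have h1 : (z : Γ) ∈ ⁅H.comap σ, H.comap σ⁆ := (mem_commutator_iff_of (⟨(z : Γ), hzH⟩ : H.comap σ)).2 (by
    rw [← MonoidHom.mem_ker, Abelianization.ker_of]; exact hzc)
  have := hH z h1 z.2
  rw [show z = 1 from Subtype.ext this, orderOf_one] at hz
  exact hl.one_lt.ne hz

end Cfsg.Agent.Linear.Mult
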