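import Cfsg.Agent.Linear.Generation

/-!
Root elements, diagonal and permutation elements of `SL_n`, for the multiplier computation.
-/

set_option autoImplicit false

namespace Cfsg.Agent.Linear.Mult

open Matrix
open scoped commutatorElement

universe u

variable {n : ℕ} {F : Type u} [Field F]

/-- The root element `1 + t E_ij` (`1` for `i = j`). -/
def el (i j : Fin n) (t : F) : SpecialLinearGroup (Fin n) F :=
  if h : i ≠ j then Matrix.SpecialLinearGroup.transvection h t else 1

theorem el_of_ne {i j : Fin n} (h : i ≠ j) (t : F) :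
    el i j t = Matrix.SpecialLinearGroup.transvection h t := dif_pos h

theorem el_self (i : Fin n) (t : F) : el i i t = 1 := dif_neg (fun h => h rfl)

theorem el_coe {i j : Fin n} (h : i ≠ j) (t : F) :
    (el i j t : Matrix (Fin n) (Fin n) F) = Matrix.transvection i j t := by
  rw [el_of_ne h]; rfl

theorem el_zero (i j : Fin n) : el i j (0 : F) = 1 := by
  by_cases h : i = j
  · subst h; exact el_self i 0
  · rw [el_of_ne h]; exact Matrix.SpecialLinearGroup.transvection_coeff_zero h

theorem el_add (i j : Fin n) (t u : F) : el i j (t + u) = el i j t * el i j u := by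
  by_cases h : i = j
  · subst h; simp [el_self]
  · simp only [el_of_ne h]; exact Matrix.SpecialLinearGroup.transvection_add h t u

theorem el_commutator {i j k : Fin n} (hik : i ≠ k) (hkj : k ≠ j) (hij : i ≠ j) (a b : F) :
    ⁅el i k a, el k j b⁆ = el i j (a * b) := by
  rw [el_of_ne hik, el_of_ne hkj, el_of_ne hij]
  exact commutator_transvections hik hkj hij a b

theorem el_smul_apply (i j : Fin n) (t : F) (v : Fin n → F) (a : Fin n) :
    (el i j t • v) a = v a + (if a = i ∧ i ≠ j then t * v j else 0) := by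
  by_cases h : i = j
  · subst h; simp [el_self]
  · rw [el_of_ne h, transvection_smul_apply]
    simp [h]

theorem el_commute {i j k l : Fin n} (hil : i ≠ l) (hjk : j ≠ k) (t u : F) :
    Commute (el i j t) (el k l u) := by
  refine SL_ext_smul fun v => funext fun a => ?_
  simp only [mul_smul, el_smul_apply]
  by_cases h1 : a = i <;> by_cases h2 : a = k <;>
    simp_all [hjk.symm, hil.symm, Ne.symm] <;> ring

/-- A diagonal element. -/
def dg (d : Fin n → F) (hd : ∏ a, d a = 1) : SpecialLinearGroup (Fin n) F :=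
  ⟨Matrix.diagonal d, by rw [Matrix.det_diagonal, hd]⟩

theorem dg_ne_zero {d : Fin n → F} (hd : ∏ a, d a = 1) (a : Fin n) : d a ≠ 0 := fun h =>
  zero_ne_one ((Finset.prod_eq_zero (Finset.mem_univ a) h).symm.trans hd)

theorem dg_smul_apply {d : Fin n → F} (hd : ∏ a, d a = 1) (v : Fin n → F) (a : Fin n) :
    (dg d hd • v) a = d a * v a := by
  rw [Matrix.SpecialLinearGroup.smul_def]
  exact Matrix.mulVec_diagonal d v a

theorem dg_conj_el {d : Fin n → F} (hd : ∏ a, d a = 1) (i j : Fin n) (t : F) :
    dg d hd * el i j t * (dg d hd)⁻¹ = el i j (d i / d j * t) := by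
  rw [mul_inv_eq_iff_eq_mul]
  refine SL_ext_smul fun v => funext fun a => ?_
  simp only [mul_smul, el_smul_apply, dg_smul_apply]
  by_cases h : a = i ∧ i ≠ j
  · rw [if_pos h, if_pos h, h.1]
    field_simp [dg_ne_zero hd j]
  · rw [if_neg h, if_neg h]
    ring

theorem dg_commute_el {d : Fin n → F} (hd : ∏ a, d a = 1) {i j : Fin n} (h : d i = d j) (t : F) :
    Commute (dg d hd) (el i j t) := by
  have := dg_conj_el hd i j t
  rw [h, div_self (dg_ne_zero hd j), one_mul] at this
  exact mul_inv_eq_iff_eq_mul.1 this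

theorem dg_pow_coe {d : Fin n → F} (hd : ∏ a, d a = 1) (m : ℕ) :
    ((dg d hd ^ m : SpecialLinearGroup (Fin n) F) : Matrix (Fin n) (Fin n) F) =
      Matrix.diagonal (d ^ m) := by
  rw [Matrix.SpecialLinearGroup.coe_pow]
  exact Matrix.diagonal_pow d m

theorem dg_pow_card_sub_one [Fintype F] {d : Fin n → F} (hd : ∏ a, d a = 1) :
    dg d hd ^ (Fintype.card F - 1) = 1 := by
  refine Subtype.ext ?_
  rw [dg_pow_coe]
  rw [Matrix.SpecialLinearGroup.coe_one, ← Matrix.diagonal_one]
  congr 1
  funext a
  exact FiniteField.pow_card_sub_one_eq_one _ (dg_ne_zero hd a)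

/-- The element of `SL_n` of an even permutation. -/
def pm (σ : Equiv.Perm (Fin n)) (hσ : Equiv.Perm.sign σ = 1) : SpecialLinearGroup (Fin n) F :=
  ⟨σ.permMatrix F, by rw [Matrix.det_permutation, hσ]; simp⟩

theorem pm_smul_apply (σ : Equiv.Perm (Fin n)) (hσ : Equiv.Perm.sign σ = 1) (v : Fin n → F)
    (a : Fin n) : ((pm σ hσ : SpecialLinearGroup (Fin n) F) • v) a = v (σ a) := by
  rw [Matrix.SpecialLinearGroup.smul_def]
  show (σ.permMatrix F *ᵥ v) a = _
  rw [Matrix.permMatrix_mulVec]
  rfl

theorem pm_conj_el (σ : Equiv.Perm (Fin n)) (hσ : Equiv.Perm.sign σ = 1) (i j : Fin n) (t : F) :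
    pm σ hσ * el (σ i) (σ j) t * (pm σ hσ)⁻¹ = el i j t := by
  rw [mul_inv_eq_iff_eq_mul]
  refine SL_ext_smul fun v => funext fun a => ?_
  simp only [mul_smul, el_smul_apply, pm_smul_apply]
  simp [σ.injective.eq_iff, σ.injective.ne_iff]

end Cfsg.Agent.Linear.Mult
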